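import Groth.Agent.HMTorus.Weight
import Groth.Agent.GrpSchLib.FieldReduced
import Groth.Agent.GrpSchLib.SmoothReduced
import Groth.Agent.CurveCohLib.SmoothCurve
import Groth.Agent.S16117
import Groth.Agent.GrpSchLib.CharZeroPts

/-!
# Lifts of an action to a line bundle are determined by characters
-/

set_option autoImplicit false
set_option backward.isDefEq.respectTransparency.types false

universe u

open CategoryTheory CategoryTheory.Limits MonoidalCategory CartesianMonoidalCategory MonObj AlgebraicGeometry Opposite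

noncomputable section

namespace Groth.Agent.LiftUnique

open HMTorus

variable {k : Type u} [Field k]

local notation "PT" => 𝟙_ (Over (Spec (CommRingCat.of k)))

/-- Morphisms into a separated scheme over a scheme are determined by rational points. -/
theorem hom_ext_pts [IsAlgClosed k] {T V X' : Over (Spec (CommRingCat.of k))} [IsReduced T.left]
    [LocallyOfFiniteType T.hom] (π : V ⟶ X') [IsSeparated π.left] {f g : T ⟶ V} (hπ : f ≫ π = g ≫ π)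
    (h : ∀ t : PT ⟶ T, t ≫ f = t ≫ g) : f = g := by
  haveI : JacobsonSpace T.left := LocallyOfFiniteType.jacobsonSpace T.hom
  refine Over.OverMorphism.ext (ext_of_fromSpecResidueField_eq f.left g.left π.left (closedPoints T.left) ?_
    (fun x hx => ?_) (congrArg CommaMorphism.left hπ))
  · rw [dense_iff_closure_eq, closure_closedPoints]
  · let e := residueFieldIsoBase T.hom x hx
    let t : PT ⟶ T := Over.homMk (Spec.map e.hom ≫ T.left.fromSpecResidueField x) (by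
      rw [Category.assoc, ← SpecMap_residueFieldIsoBase_inv T.hom x hx, ← Spec.map_comp, Iso.inv_hom_id, Spec.map_id]
      rfl)
    rw [← cancel_epi (Spec.map e.hom), ← Category.assoc, ← Category.assoc]
    exact congrArg CommaMorphism.left (h t)

variable {V X' : Over (Spec (CommRingCat.of k))}

theorem isReduced_bundle {π : V ⟶ X'} (A : GLinSh.LinAtlas π) [IsReduced X'.left] :
    IsReduced V.left ∧ LocallyOfFiniteType π.left := by
  haveI := A.affine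
  choose U hxU y hy using A.cover
  choose W hWa hxW hWU using fun x : X'.left =>
    TopologicalSpace.Opens.isBasis_iff_nbhd.1 X'.left.isBasis_affineOpens (hxU x)
  have hsup : iSup W = ⊤ := top_le_iff.1 fun p _ => TopologicalSpace.Opens.mem_iSup.2 ⟨p, hxW p⟩
  let E := fun x : X'.left => RingEquiv.ofBijective _ (A.coord (U x) (y x) (hy x) (W x) (hWa x) (hWU x))
  constructor
  · haveI : ∀ p : X'.left, IsReduced ((π.left ⁻¹ᵁ W p : V.left.Opens) : Scheme.{u}) := fun p => by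
      haveI : IsAffine ((π.left ⁻¹ᵁ W p : V.left.Opens) : Scheme.{u}) := (hWa p).preimage π.left
      haveI : _root_.IsReduced (Polynomial Γ(X'.left, W p)) := ⟨fun q hq => Polynomial.ext fun i => by
        rw [Polynomial.coeff_zero]; exact (Polynomial.isNilpotent_iff.1 hq i).eq_zero⟩
      haveI : _root_.IsReduced Γ(((π.left ⁻¹ᵁ W p : V.left.Opens) : Scheme.{u}), ⊤) :=
        isReduced_of_injective ((π.left ⁻¹ᵁ W p).topIso.commRingCatIsoToRingEquiv.trans (E p).symm).toRingHom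
          (RingEquiv.injective _)
      exact isReduced_of_isAffine_isReduced _
    refine @IsReduced.of_openCover _ (V.left.openCoverOfIsOpenCover (fun p => π.left ⁻¹ᵁ W p) ?_) fun p => this p
    exact top_le_iff.1 fun v _ => TopologicalSpace.Opens.mem_iSup.2 ⟨π.left.base v, hxW _⟩
  · refine (HasRingHomProperty.iff_exists_appLE (P := @LocallyOfFiniteType)
      (RingHom.finiteType_stableUnderComposition.stableUnderCompositionWithLocalizationAway RingHom.finiteType_holdsForLocalizationAway).1).2 fun v => ?_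
    refine ⟨⟨W (π.left.base v), hWa _⟩, ⟨π.left ⁻¹ᵁ W (π.left.base v), (hWa _).preimage π.left⟩, hxW _, le_rfl, ?_⟩
    rw [Scheme.Hom.appLE_eq_app]
    show RingHom.FiniteType _
    have : (π.left.app (W (π.left.base v))).hom = (E (π.left.base v)).toRingHom.comp Polynomial.C := by
      refine RingHom.ext fun c => ?_
      simp [E]
    rw [this]
    refine RingHom.FiniteType.comp_surjective ?_ (E (π.left.base v)).surjective
    exact RingHom.finiteType_algebraMap.2 inferInstance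

theorem pt_ext {π : V ⟶ X'} [IsAffineHom π.left] {U : X'.left.Opens} {y : Γ(V.left, π.left ⁻¹ᵁ U)}
    (hy : GLinSh.IsFibreCoord π U y) {v v' : PT ⟶ V} (e : v ≫ π = v' ≫ π)
    (h : ⊤ ≤ v.left ⁻¹ᵁ (π.left ⁻¹ᵁ U)) (h' : ⊤ ≤ v'.left ⁻¹ᵁ (π.left ⁻¹ᵁ U))
    (hval : HMNum.evalFn π y v h = HMNum.evalFn π y v' h') : v = v' := by
  haveI : IsAffine (PT).left := inferInstanceAs (IsAffine (Spec (CommRingCat.of k)))
  obtain ⟨W, hWa, hxW, hWU⟩ := TopologicalSpace.Opens.isBasis_iff_nbhd.1 X'.left.isBasis_affineOpens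
    (show (v ≫ π).left.base (IsLocalRing.closedPoint k) ∈ U from h trivial)
  replace hWa : IsAffineOpen W := hWa
  have hW := HMTransLib.top_of_mem (v ≫ π) hxW
  have hVa : IsAffineOpen (π.left ⁻¹ᵁ W) := hWa.preimage π.left
  have hvW : ⊤ ≤ v.left ⁻¹ᵁ (π.left ⁻¹ᵁ W) := hW.ge
  have hvW' : ⊤ ≤ v'.left ⁻¹ᵁ (π.left ⁻¹ᵁ W) := by
    show ⊤ ≤ (v' ≫ π).left ⁻¹ᵁ W
    rw [← e, hW]
  have hr : ∀ (w : PT ⟶ V) (hw : ⊤ ≤ w.left ⁻¹ᵁ (π.left ⁻¹ᵁ W)) (hwU : ⊤ ≤ w.left ⁻¹ᵁ (π.left ⁻¹ᵁ U)),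
      w.left.appLE (π.left ⁻¹ᵁ W) ⊤ hw (GLinSh.res π hWU y) = HMNum.evalFn π y w hwU := fun w hw hwU =>
    congrArg (fun ψ => (ConcreteCategory.hom ψ) y)
      (Scheme.Hom.map_appLE w.left hw (homOfLE (π.left.preimage_mono hWU)).op)
  have hc : ∀ (w : PT ⟶ V) (hw : ⊤ ≤ w.left ⁻¹ᵁ (π.left ⁻¹ᵁ W)) (c : Γ(X'.left, W)),
      w.left.appLE (π.left ⁻¹ᵁ W) ⊤ hw (π.left.app W c) = (w ≫ π).left.appLE W ⊤ hw c := fun w hw c =>
    congrArg (fun ψ => (ConcreteCategory.hom ψ) c)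
      ((congrArg (· ≫ w.left.appLE _ ⊤ hw) (Scheme.Hom.appLE_eq_app π.left)).symm.trans
        (Scheme.Hom.appLE_comp_appLE w.left π.left W _ ⊤ le_rfl hw))
  have happ : v.left.appLE (π.left ⁻¹ᵁ W) ⊤ hvW = v'.left.appLE (π.left ⁻¹ᵁ W) ⊤ hvW' := by
    refine CommRingCat.hom_ext (RingHom.ext fun z => ?_)
    obtain ⟨p, rfl⟩ := (hy W hWa hWU).2 z
    have := Polynomial.ringHom_ext (f := (v.left.appLE (π.left ⁻¹ᵁ W) ⊤ hvW).hom.comp
        (Polynomial.eval₂RingHom (π.left.app W).hom (GLinSh.res π hWU y)))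
      (g := (v'.left.appLE (π.left ⁻¹ᵁ W) ⊤ hvW').hom.comp
        (Polynomial.eval₂RingHom (π.left.app W).hom (GLinSh.res π hWU y))) (fun c => by
          simp only [RingHom.comp_apply, Polynomial.coe_eval₂RingHom, Polynomial.eval₂_C]
          refine (hc v hvW c).trans (Eq.trans ?_ (hc v' hvW' c).symm)
          have key : ∀ (f f' : PT ⟶ X') (hf : f = f') (e₁ e₂), f.left.appLE W ⊤ e₁ c = f'.left.appLE W ⊤ e₂ c := by
            rintro f f' rfl e₁ e₂; rfl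
          exact key _ _ e _ _) (by
          simp only [RingHom.comp_apply, Polynomial.coe_eval₂RingHom, Polynomial.eval₂_X]
          exact (hr v hvW h).trans (hval.trans (hr v' hvW' h').symm))
    exact RingHom.congr_fun this p
  refine Over.OverMorphism.ext ?_
  rw [← cancel_epi (PT).left.isoSpec.inv, ← IsAffineOpen.fromSpec_top,
    ← IsAffineOpen.SpecMap_appLE_fromSpec v.left hVa (isAffineOpen_top _) hvW,
    ← IsAffineOpen.SpecMap_appLE_fromSpec v'.left hVa (isAffineOpen_top _) hvW', happ]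

variable {G : Over (Spec (CommRingCat.of k))} [GrpObj G]

/-- A lifted action scales the coordinates of rational points by units. -/
theorem exists_unit {a : AlgGrp.Action G X'} (B : GLinSh.LinBun G a) (g : PT ⟶ G) (x : PT ⟶ X')
    {U U' : X'.left.Opens} {y : Γ(B.V.left, B.π.left ⁻¹ᵁ U)} {y' : Γ(B.V.left, B.π.left ⁻¹ᵁ U')}
    (hy : y ∈ B.atlas.chart U) (hy' : y' ∈ B.atlas.chart U') (hU : x.left ⁻¹ᵁ U = ⊤)
    (hU' : (lift g x ≫ a.act).left ⁻¹ᵁ U' = ⊤) :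
    ∃ C : Γ((PT).left, ⊤), IsUnit C ∧ ∀ (v : PT ⟶ B.V) (_ : v ≫ B.π = x)
      (h₁ : ⊤ ≤ (lift g v ≫ B.lift.act).left ⁻¹ᵁ (B.π.left ⁻¹ᵁ U')) (h₂ : ⊤ ≤ v.left ⁻¹ᵁ (B.π.left ⁻¹ᵁ U)),
      HMNum.evalFn B.π y' (lift g v ≫ B.lift.act) h₁ = C * HMNum.evalFn B.π y v h₂ := by
  haveI := B.atlas.affine
  obtain ⟨c, hc⟩ := exists_cval B hy hy'
  obtain ⟨c', hc'⟩ := exists_cval B hy' hy
  have hback : lift g⁻¹ (lift g x ≫ a.act) ≫ a.act = x := by
    rw [GrpSchLib.act_mul, inv_mul_cancel, GrpSchLib.act_one]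
  refine ⟨cval c g x (top_le_lift hU hU'), ?_, fun v hv h₁ h₂ => hc g x _ v hv h₁ h₂⟩
  obtain ⟨v₁, hv₁, hv₁U, hy₁⟩ := exists_unit_pt (B.atlas.coord U y hy) x hU
  have hv₁' : (lift g v₁ ≫ B.lift.act) ≫ B.π = lift g x ≫ a.act := by rw [lift_act_π, hv₁]
  have hv₁'' : lift g⁻¹ (lift g v₁ ≫ B.lift.act) ≫ B.lift.act = v₁ := by
    rw [GrpSchLib.act_mul, inv_mul_cancel, GrpSchLib.act_one]
  have hU₁ : ⊤ ≤ (lift g v₁ ≫ B.lift.act).left ⁻¹ᵁ (B.π.left ⁻¹ᵁ U') := by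
    show ⊤ ≤ ((lift g v₁ ≫ B.lift.act) ≫ B.π).left ⁻¹ᵁ U'
    rw [hv₁', hU']
  have e1 := hc g x (top_le_lift hU hU') v₁ hv₁ hU₁ hv₁U
  have e2 := hc' g⁻¹ _ (top_le_lift hU' (by rw [hback]; exact hU)) _ hv₁' (by rw [hv₁'']; exact hv₁U) hU₁
  rw [evalFn_congr B.π y hv₁'' _ hv₁U, hy₁, e1, hy₁, _root_.mul_one, _root_.mul_comm] at e2
  exact IsUnit.of_mul_eq_one _ e2.symm

theorem mem_basicOpen_of_isUnit {Y Z : Scheme.{u}} (f : Y ⟶ Z) (r : Γ(Z, ⊤)) (h : IsUnit (f.appTop r)) (p : Y) :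
    f.base p ∈ Z.basicOpen r := by
  show p ∈ f ⁻¹ᵁ Z.basicOpen r
  rw [Scheme.preimage_basicOpen_top, Scheme.basicOpen_of_isUnit _ h]
  trivial

theorem isUnit_of_pts [IsAlgClosed k] {T : Over (Spec (CommRingCat.of k))} [LocallyOfFiniteType T.hom]
    (r : Γ(T.left, ⊤)) (h : ∀ t : PT ⟶ T, IsUnit (t.left.appTop r)) : IsUnit r := by
  haveI : JacobsonSpace T.left := LocallyOfFiniteType.jacobsonSpace T.hom
  suffices htop : T.left.basicOpen r = ⊤ by
    refine T.left.toRingedSpace.isUnit_of_isUnit_germ ⊤ r fun x hx => ?_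
    exact (T.left.mem_basicOpen r x hx).1 (htop.ge trivial)
  by_contra hne
  have hcl : IsClosed ((T.left.basicOpen r : Set T.left)ᶜ) := (T.left.basicOpen r).2.isClosed_compl
  obtain ⟨x, hx, hxc⟩ := nonempty_inter_closedPoints (Z := (T.left.basicOpen r : Set T.left)ᶜ)
    (Set.nonempty_compl.2 fun h' => hne (TopologicalSpace.Opens.ext h')) hcl.isLocallyClosed
  let e := residueFieldIsoBase T.hom x hxc
  let t : PT ⟶ T := Over.homMk (Spec.map e.hom ≫ T.left.fromSpecResidueField x) (by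
    rw [Category.assoc, ← SpecMap_residueFieldIsoBase_inv T.hom x hxc, ← Spec.map_comp, Iso.inv_hom_id, Spec.map_id]
    rfl)
  have hmem := mem_basicOpen_of_isUnit (Spec.map e.hom ≫ T.left.fromSpecResidueField x) r (h t) (IsLocalRing.closedPoint k)
  rw [Scheme.Hom.comp_apply, Scheme.fromSpecResidueField_apply] at hmem
  exact hx hmem

/-- Unit functions with value one at the origin of a connected group are characters. -/
theorem exists_char [IsAlgClosed k] [Smooth G.hom] [QuasiCompact G.hom] [ConnectedSpace G.left]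
    (r : Γ(G.left, ⊤)) (hr : IsUnit r) (h1 : η[G].left.appTop r = 1) :
    ∃ (χ : G ⟶ Red.Gm (Spec (CommRingCat.of k))) (_ : IsMonHom χ), (GmPts.unitOfPt χ).val = r := by
  haveI : CompactSpace G.left := QuasiCompact.compactSpace_of_compactSpace G.hom
  haveI : IsIntegral G.left := CurveCohLib.isIntegral_of_smooth_connected G.hom
  haveI : IsSeparated G.hom := GrpSchLib.CharZeroPts.isSeparated_grp G
  obtain ⟨p, q, -, -, hpq⟩ := Groth.Agent.S16117.result k G G (μ[G].left.appTop r) (hr.map μ[G].left.appTop.hom)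
  have pull : ∀ {T : Over (Spec (CommRingCat.of k))} (g h : T ⟶ G),
      (g * h).left.appTop r = g.left.appTop p * h.left.appTop q := fun g h => by
    have := congrArg (lift g h).left.appTop hpq
    rw [map_mul, ← GmPts.appTop_comp_apply, ← GmPts.appTop_comp_apply, ← GmPts.appTop_comp_apply, ← Over.comp_left,
      ← Over.comp_left, ← Over.comp_left, lift_fst, lift_snd, ← Hom.mul_def] at this
    exact this
  have one_pull : ∀ {T : Over (Spec (CommRingCat.of k))}, (1 : T ⟶ G).left.appTop r = 1 := fun {T} => by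
    rw [Hom.one_def, Over.comp_left, GmPts.appTop_comp_apply, h1, map_one]
  have mult : ∀ {T : Over (Spec (CommRingCat.of k))} (g h : T ⟶ G),
      (g * h).left.appTop r = g.left.appTop r * h.left.appTop r := fun {T} g h => by
    have e0 := pull (1 : T ⟶ G) 1
    rw [_root_.one_mul, one_pull] at e0
    have eg := pull g 1
    rw [_root_.mul_one] at eg
    have eh := pull (1 : T ⟶ G) h
    rw [_root_.one_mul] at eh
    rw [pull, eg, eh]
    calc g.left.appTop p * h.left.appTop q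
        = g.left.appTop p * h.left.appTop q * ((1 : T ⟶ G).left.appTop p * (1 : T ⟶ G).left.appTop q) := by
          rw [← e0, _root_.mul_one]
      _ = _ := by ring
  let χ : G ⟶ Red.Gm (Spec (CommRingCat.of k)) := GmPts.ptOfUnit hr.unit
  have hχ : ∀ {T : Over (Spec (CommRingCat.of k))} (g : T ⟶ G), (GmPts.unitOfPt (g ≫ χ)).val = g.left.appTop r := fun g => by
    rw [GmPts.unitOfPt_comp]
    show g.left.appTop (GmPts.unitOfPt χ).val = _
    rw [GmPts.unitOfPt_ptOfUnit, IsUnit.unit_spec]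
  refine ⟨χ, { one_hom := (GmPts.equiv _).injective (Units.ext ?_), mul_hom := (GmPts.equiv _).injective (Units.ext ?_) }, ?_⟩
  · show (GmPts.unitOfPt (η[G] ≫ χ)).val = (GmPts.unitOfPt η[Red.Gm (Spec (CommRingCat.of k))]).val
    rw [hχ, h1, show (η[Red.Gm (Spec (CommRingCat.of k))] : PT ⟶ _) = 1 by rw [Hom.one_def, toUnit_unit, Category.id_comp],
      GmPts.unitOfPt_one, Units.val_one]
  · show (GmPts.unitOfPt (μ[G] ≫ χ)).val = (GmPts.unitOfPt ((χ ⊗ₘ χ) ≫ μ[Red.Gm (Spec (CommRingCat.of k))])).val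
    rw [hχ, show (χ ⊗ₘ χ) ≫ μ[Red.Gm (Spec (CommRingCat.of k))] = (fst G G ≫ χ) * (snd G G ≫ χ) by
      rw [Hom.mul_def, lift_fst_comp_snd_comp], GmPts.unitOfPt_mul, Units.val_mul, hχ, hχ, ← mult, Hom.mul_def,
      lift_fst_snd, Category.id_comp]
  · rw [GmPts.unitOfPt_ptOfUnit, IsUnit.unit_spec]

theorem lift_eq [IsAlgClosed k] [Smooth G.hom] [QuasiCompact G.hom] [ConnectedSpace G.left]
    (hχ : ∀ (χ : G ⟶ Red.Gm (Spec (CommRingCat.of k))) [IsMonHom χ], χ = 1)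
    [LocallyOfFiniteType X'.hom] [IsReduced X'.left]
    (a : AlgGrp.Action G X') (π : V ⟶ X') (A : GLinSh.LinAtlas π)
    (Φ₁ Φ₂ : AlgGrp.Action G V) (h₁ : Φ₁.act ≫ π = (G ◁ π) ≫ a.act) (h₂ : Φ₂.act ≫ π = (G ◁ π) ≫ a.act)
    (hl₁ : GLinSh.IsLinearLift a π Φ₁ A.chart h₁) (hl₂ : GLinSh.IsLinearLift a π Φ₂ A.chart h₂) :
    Φ₁.act = Φ₂.act := by
  haveI := A.affine
  obtain ⟨_, _⟩ := isReduced_bundle A
  haveI : IsReduced G.left := GrpSchLib.isReduced_of_smooth_field G.hom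
  haveI : IsReduced (G ⊗ V).left := GrpSchLib.isReduced_pullback_of_perfectField G.hom V.hom
  haveI : LocallyOfFiniteType V.hom := by rw [← Over.w π]; infer_instance
  haveI : LocallyOfFiniteType (G ⊗ V).hom := inferInstanceAs (LocallyOfFiniteType (pullback.fst G.hom V.hom ≫ G.hom))
  let B₁ : GLinSh.LinBun G a := ⟨V, π, A, Φ₁, h₁, hl₁⟩
  let B₂ : GLinSh.LinBun G a := ⟨V, π, A, Φ₂, h₂, hl₂⟩
  have hπ₁ : ∀ {T : Over (Spec (CommRingCat.of k))} (g : T ⟶ G) (v : T ⟶ V),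
      (lift g v ≫ Φ₁.act) ≫ π = lift g (v ≫ π) ≫ a.act := fun g v => lift_act_π B₁ g v
  have hπ₂ : ∀ {T : Over (Spec (CommRingCat.of k))} (g : T ⟶ G) (v : T ⟶ V),
      (lift g v ≫ Φ₂.act) ≫ π = lift g (v ≫ π) ≫ a.act := fun g v => lift_act_π B₂ g v
  refine hom_ext_pts π (h₁.trans h₂.symm) fun t => ?_
  suffices key : ∀ (g : PT ⟶ G) (v : PT ⟶ V), lift g v ≫ Φ₁.act = lift g v ≫ Φ₂.act by
    rw [show t = lift (t ≫ fst G V) (t ≫ snd G V) by rw [← comp_lift, lift_fst_snd, Category.comp_id]]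
    exact key _ _
  intro g₀ v₀
  let x := v₀ ≫ π
  obtain ⟨U, hxU, y, hy⟩ := A.cover (x.left.base (IsLocalRing.closedPoint k))
  have hU := HMTransLib.top_of_mem x hxU
  obtain ⟨v₁, hv₁, hv₁U, hy₁⟩ := exists_unit_pt (A.coord U y hy) x hU
  let w : G ⟶ V := lift (𝟙 G)⁻¹ (lift (𝟙 G) (toUnit G ≫ v₁) ≫ Φ₁.act) ≫ Φ₂.act
  have hw : w ≫ π = toUnit G ≫ x := by
    rw [hπ₂, hπ₁, GrpSchLib.act_mul, inv_mul_cancel, GrpSchLib.act_one, Category.assoc, hv₁]
  have hwU : ⊤ ≤ w.left ⁻¹ᵁ (π.left ⁻¹ᵁ U) := HMNum.top_le_preimage π hU hw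
  let r : Γ(G.left, ⊤) := HMNum.evalFn π y w hwU
  have hwt : ∀ g : PT ⟶ G, g ≫ w = lift g⁻¹ (lift g v₁ ≫ Φ₁.act) ≫ Φ₂.act := fun g => by
    simp only [w, ← Category.assoc, comp_lift, GrpObj.comp_inv, Category.comp_id, comp_toUnit, toUnit_unit, Category.id_comp]
  have hwgU : ∀ g : PT ⟶ G, ⊤ ≤ (g ≫ w).left ⁻¹ᵁ (π.left ⁻¹ᵁ U) := fun g =>
    Scheme.Hom.preimage_mono g.left hwU
  have hru : IsUnit r := isUnit_of_pts r fun g => by
    obtain ⟨U', hxU', y', hy'⟩ := A.cover ((lift g x ≫ a.act).left.base (IsLocalRing.closedPoint k))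
    have hU' := HMTransLib.top_of_mem _ hxU'
    obtain ⟨C₁, hC₁, hC₁'⟩ := exists_unit B₁ g x hy hy' hU hU'
    have hback : lift g⁻¹ (lift g x ≫ a.act) ≫ a.act = x := by
      rw [GrpSchLib.act_mul, inv_mul_cancel, GrpSchLib.act_one]
    obtain ⟨C₂, hC₂, hC₂'⟩ := exists_unit B₂ g⁻¹ (lift g x ≫ a.act) hy' hy hU' (by rw [hback]; exact hU)
    have hm : (lift g v₁ ≫ Φ₁.act) ≫ π = lift g x ≫ a.act := by rw [hπ₁, hv₁]
    have hmU : ⊤ ≤ (lift g v₁ ≫ Φ₁.act).left ⁻¹ᵁ (π.left ⁻¹ᵁ U') := by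
      show ⊤ ≤ ((lift g v₁ ≫ Φ₁.act) ≫ π).left ⁻¹ᵁ U'
      rw [hm, hU']
    have hlast : ⊤ ≤ (lift g⁻¹ (lift g v₁ ≫ Φ₁.act) ≫ Φ₂.act).left ⁻¹ᵁ (π.left ⁻¹ᵁ U) := hwt g ▸ hwgU g
    rw [← evalFn_comp π y g w hwU (hwgU g), evalFn_congr π y (hwt g) _ hlast, hC₂' _ hm hlast hmU,
      hC₁' v₁ hv₁ hmU hv₁U, hy₁, _root_.mul_one]
    exact hC₂.mul hC₁
  have hr1 : η[G].left.appTop r = 1 := by
    rw [← evalFn_comp π y η[G] w hwU (hwgU _), ← hy₁]
    refine evalFn_congr π y ?_ _ _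
    rw [hwt, show (η[G] : PT ⟶ G) = 1 by rw [Hom.one_def, toUnit_unit, Category.id_comp], inv_one, GrpSchLib.act_one,
      GrpSchLib.act_one]
  obtain ⟨χ, _, hχr⟩ := exists_char r hru hr1
  rw [hχ χ, GmPts.unitOfPt_one, Units.val_one] at hχr
  have hfix : lift g₀⁻¹ (lift g₀ v₁ ≫ Φ₁.act) ≫ Φ₂.act = v₁ := by
    refine pt_ext (A.coord U y hy) ?_ (hwt g₀ ▸ hwgU g₀) hv₁U ?_
    · rw [hπ₂, hπ₁, GrpSchLib.act_mul, inv_mul_cancel, GrpSchLib.act_one]
    · rw [← evalFn_congr π y (hwt g₀) (hwgU g₀), evalFn_comp π y g₀ w hwU, hy₁]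
      show g₀.left.appTop r = 1
      rw [← hχr, map_one]
  have hv₁₂ : lift g₀ v₁ ≫ Φ₁.act = lift g₀ v₁ ≫ Φ₂.act := by
    conv_rhs => rw [← hfix, GrpSchLib.act_mul, mul_inv_cancel, GrpSchLib.act_one]
  obtain ⟨U', hxU', y', hy'⟩ := A.cover ((lift g₀ x ≫ a.act).left.base (IsLocalRing.closedPoint k))
  have hU' := HMTransLib.top_of_mem _ hxU'
  obtain ⟨C₁, -, hC₁⟩ := exists_unit B₁ g₀ x hy hy' hU hU'
  obtain ⟨C₂, -, hC₂⟩ := exists_unit B₂ g₀ x hy hy' hU hU'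
  have hUof : ∀ (Φ : AlgGrp.Action G V), (∀ v : PT ⟶ V, (lift g₀ v ≫ Φ.act) ≫ π = lift g₀ (v ≫ π) ≫ a.act) →
      ∀ v : PT ⟶ V, v ≫ π = x → ⊤ ≤ (lift g₀ v ≫ Φ.act).left ⁻¹ᵁ (π.left ⁻¹ᵁ U') := fun Φ hΦ v hv => by
    show ⊤ ≤ ((lift g₀ v ≫ Φ.act) ≫ π).left ⁻¹ᵁ U'
    rw [hΦ, hv, hU']
  have hCC : C₁ = C₂ := by
    have e1 := hC₁ v₁ hv₁ (hUof Φ₁ (hπ₁ g₀) v₁ hv₁) hv₁U
    have e2 := hC₂ v₁ hv₁ (hUof Φ₂ (hπ₂ g₀) v₁ hv₁) hv₁U
    rw [hy₁, _root_.mul_one] at e1 e2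
    rw [← e1, ← e2]
    exact evalFn_congr π y' hv₁₂ _ _
  refine pt_ext (A.coord U' y' hy') (by rw [hπ₁, hπ₂]) (hUof Φ₁ (hπ₁ g₀) v₀ rfl) (hUof Φ₂ (hπ₂ g₀) v₀ rfl) ?_
  have hv₀U : ⊤ ≤ v₀.left ⁻¹ᵁ (π.left ⁻¹ᵁ U) := hU.ge
  rw [hC₁ v₀ rfl (hUof Φ₁ (hπ₁ g₀) v₀ rfl) hv₀U, hC₂ v₀ rfl (hUof Φ₂ (hπ₂ g₀) v₀ rfl) hv₀U, hCC]

end Groth.Agent.LiftUnique
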